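import Groth.Agent.L16.HomogComp.BaseChange
import Groth.Agent.L22.GeomConn.Dims
import Mathlib.RingTheory.Artinian.Ring

/-!
Connected components of homogeneous spaces over a field or an Artinian local ring all have the same dimension.
-/

set_option autoImplicit false
universe u

open CategoryTheory CategoryTheory.Limits MonoidalCategory CartesianMonoidalCategory MonObj GrpObj
open AlgebraicGeometry

set_option backward.isDefEq.respectTransparency.types false

namespace Groth.L15.Homog

open Groth.L22.GeomConn Groth.L25 Groth.L25.Homogeneous Groth.L16.HomogComp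

theorem surjective_bc' {S : Scheme.{u}} {G X : Over S} [GrpObj G] (a : AlgGrp.Action G X)
    (hΦ : Surjective (lift a.act (snd G X)).left) {S' : Scheme.{u}} (t : S' ⟶ S) :
    Surjective (lift (a.bc t).act (snd (Red.bc t G) (Red.bc t X))).left := by
  have key : lift (a.bc t).act (snd _ _) ≫ Functor.LaxMonoidal.μ (Over.pullback t) X X =
      Functor.LaxMonoidal.μ (Over.pullback t) G X ≫ (Over.pullback t).map (lift a.act (snd G X)) := by
    rw [← Functor.Monoidal.lift_μ, comp_lift_assoc, Functor.Monoidal.μ_snd, AlgGrp.Action.bc_act]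
  let φ := lift a.act (snd G X)
  have sq : IsPullback ((Over.pullback t).map φ).left (pullback.fst (G ⊗ X).hom t) (pullback.fst (X ⊗ X).hom t)
      φ.left := by
    have h1 : IsPullback (pullback.fst (G ⊗ X).hom t) (pullback.snd (G ⊗ X).hom t) (φ.left ≫ (X ⊗ X).hom) t := by
      convert IsPullback.of_hasPullback (G ⊗ X).hom t using 2
      exact Over.w φ
    refine (IsPullback.of_bot ?_ ?_ (IsPullback.of_hasPullback (X ⊗ X).hom t)).flip
    · rw [show ((Over.pullback t).map φ).left ≫ pullback.snd (X ⊗ X).hom t = pullback.snd (G ⊗ X).hom t from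
        pullback.lift_snd _ _ _]
      exact h1
    · exact (pullback.lift_fst _ _ _).symm
  have hs : Surjective ((Over.pullback t).map φ).left := MorphismProperty.of_isPullback sq.flip hΦ
  have h1 : IsIso (Functor.LaxMonoidal.μ (Over.pullback t) X X).left :=
    inferInstanceAs (IsIso ((Over.forget _).map (Functor.LaxMonoidal.μ (Over.pullback t) X X)))
  have h2 : IsIso (Functor.LaxMonoidal.μ (Over.pullback t) G X).left :=
    inferInstanceAs (IsIso ((Over.forget _).map (Functor.LaxMonoidal.μ (Over.pullback t) G X)))
  have e : (lift (a.bc t).act (snd (Red.bc t G) (Red.bc t X))).left =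
      (Functor.LaxMonoidal.μ (Over.pullback t) G X).left ≫ ((Over.pullback t).map φ).left ≫
        inv (Functor.LaxMonoidal.μ (Over.pullback t) X X).left := by
    rw [← Category.assoc, IsIso.eq_comp_inv]
    exact congrArg (fun m => m.left) key
  rw [e]
  infer_instance

variable {k : Type u} [Field k] {G X : Over (Spec (CommRingCat.of k))} [GrpObj G] (a : AlgGrp.Action G X)

theorem connectedComponent_eq_closure [QuasiSeparatedSpace X.left] (hΦ : Surjective (lift a.act (snd G X)).left)
    (x : X.left) {ξ : X.left} (hξ : IsMaxPt ξ) (hξx : ξ ⤳ x) : connectedComponent x = closure {ξ} := by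
  have hirr : IsIrreducible (connectedComponent x) :=
    ⟨connectedComponent_nonempty, isPreirreducible_connectedComponent a hΦ x⟩
  have hg := hirr.isGenericPoint_genericPoint isClosed_connectedComponent
  have hmem : ξ ∈ connectedComponent x :=
    (isIrreducible_singleton.closure : IsIrreducible (closure ({ξ} : Set X.left))).isConnected.isPreconnected.subset_connectedComponent
      hξx.mem_closure (subset_closure rfl)
  rw [← hξ _ (hg.specializes hmem)]
  exact hg.symm

include a in
theorem dim_closure_eq (hΦ : Surjective (lift a.act (snd G X)).left) [LocallyOfFiniteType X.hom]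
    {ξ ν : X.left} (hξ : IsMaxPt ξ) (hν : IsMaxPt ν) :
    topologicalKrullDim (closure ({ξ} : Set X.left)) = topologicalKrullDim (closure ({ν} : Set X.left)) := by
  -- a point of `G ⊗ X` over `(ξ, ν)`
  obtain ⟨p, hp1, hp2⟩ := Scheme.Pullback.exists_preimage_pullback (f := X.hom) (g := X.hom) ξ ν
    (Subsingleton.elim (α := PrimeSpectrum k) _ _)
  obtain ⟨z, hz⟩ := hΦ.surj p
  obtain ⟨φ, hφ⟩ := Spec.map_surjective ((G ⊗ X).left.fromSpecResidueField z ≫ (G ⊗ X).hom)
  letI : Algebra k ((G ⊗ X).left.residueField z) := φ.hom.toAlgebra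
  let L := (G ⊗ X).left.residueField z
  let t : Spec (CommRingCat.of L) ⟶ Spec (CommRingCat.of k) := Spec.map (CommRingCat.ofHom (algebraMap k L))
  let T : Over (Spec (CommRingCat.of k)) := Over.mk t
  let pt : T ⟶ G ⊗ X := Over.homMk ((G ⊗ X).left.fromSpecResidueField z) hφ.symm
  let o : T.left := IsLocalRing.closedPoint L
  have hpt : pt.left o = z := Scheme.fromSpecResidueField_apply z o
  let c : T ⟶ G := pt ≫ fst G X
  let b : T ⟶ X := pt ≫ snd G X
  let a' : T ⟶ X := pt ≫ a.act
  have hb : b.left o = ν := by
    show (snd G X).left (pt.left o) = ν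
    rw [hpt, ← hp2, ← hz]
    exact (congr(($(lift_snd a.act (snd G X))).left z)).symm
  have ha' : a'.left o = ξ := by
    show a.act.left (pt.left o) = ξ
    rw [hpt, ← hp1, ← hz]
    exact (congr(($(lift_fst a.act (snd G X))).left z)).symm
  let sa : T ⟶ X ⊗ T := lift a' (𝟙 T)
  let sb : T ⟶ X ⊗ T := lift b (𝟙 T)
  have hs : sb ≫ act' a c = sa := by
    apply CartesianMonoidalCategory.hom_ext
    · simp only [sb, sa, act', Category.assoc, lift_fst, comp_lift_assoc, lift_snd_assoc, Category.id_comp]
      simp only [c, b, a', ← comp_lift, lift_fst_snd, Category.comp_id]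
    · simp [sb, sa, act']
  haveI := isIso_act' a c
  haveI : IsIso (act' a c).left := inferInstanceAs (IsIso ((Over.forget _).map (act' a c)))
  let e : (X ⊗ T).left ≃ₜ (X ⊗ T).left := (act' a c).left.homeomorph
  obtain ⟨m, hm, hmb⟩ := exists_isMaxPt_specializes (sb.left o)
  obtain ⟨m', hm', hma⟩ := exists_isMaxPt_specializes (sa.left o)
  haveI : Flat t := flat_toSpecField _
  haveI hfπ : Flat (fst X T).left := by
    rw [Over.fst_left]; exact MorphismProperty.pullback_fst X.hom t ‹Flat t›
  have hem : IsMaxPt (e m) := IsMaxPt.map (act' a c).left hm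
  have hes : e m ⤳ sa.left o := by
    rw [← hs]
    exact hmb.map (act' a c).left.continuous
  have hu : e m = m' := unique_gen (a.bc t) (surjective_bc a hΦ t) hem hm' hes hma
  have h1 : (fst X T).left m = ν := by
    refine hν _ ?_
    have := hmb.map (fst X T).left.continuous
    rwa [show (fst X T).left (sb.left o) = ν from
      (congr(($(lift_fst b (𝟙 T))).left o)).trans hb] at this
  have h2 : (fst X T).left m' = ξ := by
    refine hξ _ ?_
    have := hma.map (fst X T).left.continuous
    rwa [show (fst X T).left (sa.left o) = ξ from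
      (congr(($(lift_fst a' (𝟙 T))).left o)).trans ha'] at this
  have d1 := dim_closure_isMaxPt X.hom L (t := m) hm
  have d2 := dim_closure_isMaxPt X.hom L (t := m') hm'
  have himg : e '' closure {m} = closure {m'} := by rw [e.image_closure, Set.image_singleton, hu]
  have d3 : topologicalKrullDim (closure ({m} : Set (X ⊗ T).left)) =
      topologicalKrullDim (closure ({m'} : Set (X ⊗ T).left)) :=
    IsHomeomorph.topologicalKrullDim_eq _
      ((e.image _).trans (Homeomorph.setCongr himg)).isHomeomorph
  calc _ = topologicalKrullDim (closure ({(fst X T).left m'} : Set X.left)) := by rw [h2]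
    _ = topologicalKrullDim (closure ({m'} : Set (X ⊗ T).left)) := d2.symm
    _ = topologicalKrullDim (closure ({m} : Set (X ⊗ T).left)) := d3.symm
    _ = topologicalKrullDim (closure ({(fst X T).left m} : Set X.left)) := d1
    _ = _ := by rw [h1]

include a in
theorem dim_connectedComponent_eq (hΦ : Surjective (lift a.act (snd G X)).left) [LocallyOfFiniteType X.hom]
    (x y : X.left) :
    topologicalKrullDim ↥(connectedComponent x) = topologicalKrullDim ↥(connectedComponent y) := by
  haveI : IsLocallyNoetherian X.left := LocallyOfFiniteType.isLocallyNoetherian X.hom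
  obtain ⟨ξ, hξ, hξx⟩ := exists_isMaxPt_specializes x
  obtain ⟨ν, hν, hνy⟩ := exists_isMaxPt_specializes y
  rw [connectedComponent_eq_closure a hΦ x hξ hξx, connectedComponent_eq_closure a hΦ y hν hνy]
  exact dim_closure_eq a hΦ hξ hν

theorem dim_connectedComponent_eq_artinian (A : Type u) [CommRing A] [IsArtinianRing A] [IsLocalRing A]
    {G X : Over (Spec (CommRingCat.of A))} [GrpObj G] [LocallyOfFiniteType X.hom]
    (a : AlgGrp.Action G X) (hΦ : Surjective (lift a.act (snd G X)).left) (x y : X.left) :
    topologicalKrullDim ↥(connectedComponent x) = topologicalKrullDim ↥(connectedComponent y) := by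
  let t : Spec (CommRingCat.of (IsLocalRing.ResidueField A)) ⟶ Spec (CommRingCat.of A) :=
    Spec.map (CommRingCat.ofHom (IsLocalRing.residue A))
  haveI : IsClosedImmersion t := IsClosedImmersion.spec_of_surjective _ IsLocalRing.residue_surjective
  haveI : Surjective t := ⟨fun s => ⟨IsLocalRing.closedPoint _, Subsingleton.elim (α := PrimeSpectrum A) _ _⟩⟩
  let π := pullback.fst X.hom t
  haveI : IsClosedImmersion π := MorphismProperty.pullback_fst _ _ inferInstance
  haveI : Surjective π := MorphismProperty.pullback_fst _ _ inferInstance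
  let e : (Red.bc t X).left ≃ₜ X.left := π.isClosedEmbedding.isEmbedding.toHomeomorphOfSurjective π.surjective
  haveI : LocallyOfFiniteType (Red.bc t X).hom := MorphismProperty.pullback_snd _ _ ‹LocallyOfFiniteType X.hom›
  have key : ∀ p, topologicalKrullDim ↥(connectedComponent (e p)) = topologicalKrullDim ↥(connectedComponent p) :=
    fun p => by
    have h : e '' connectedComponent p = connectedComponent (e p) := by
      rw [← connectedComponentIn_univ p, e.image_connectedComponentIn (Set.mem_univ p), Set.image_univ, e.range_coe,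
        connectedComponentIn_univ]
    exact (IsHomeomorph.topologicalKrullDim_eq _ ((e.image _).trans (Homeomorph.setCongr h)).isHomeomorph).symm
  obtain ⟨p, rfl⟩ := e.surjective x
  obtain ⟨q, rfl⟩ := e.surjective y
  rw [key, key]
  exact dim_connectedComponent_eq (a.bc t) (surjective_bc' a hΦ t) p q

end Groth.L15.Homog
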